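import Cfsg.Agent.Lib.PushUp.PSLFacts

/-!
# The Sylow `2`-subgroups of `PSL₂(2ⁿ)`: trivial intersections and generation
-/

set_option autoImplicit false
set_option linter.style.haveILetI false
set_option linter.unusedSectionVars false

namespace CfsgLib.PushUpTwo

open Matrix

variable {F : Type*} [Field F]

local notation "SL2" => Matrix.SpecialLinearGroup (Fin 2) F

theorem slExt {g h : SL2}
    (h00 : g.1 0 0 = h.1 0 0) (h01 : g.1 0 1 = h.1 0 1)
    (h10 : g.1 1 0 = h.1 1 0) (h11 : g.1 1 1 = h.1 1 1) : g = h := by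
  ext i j; fin_cases i <;> fin_cases j <;> assumption

theorem slDet (g : SL2) : g.1 0 0 * g.1 1 1 - g.1 0 1 * g.1 1 0 = 1 := by
  rw [← Matrix.det_fin_two]; exact g.2

/-- `[[1, a], [0, 1]]` -/
def up (a : F) : SL2 := ⟨!![1, a; 0, 1], by simp [Matrix.det_fin_two]⟩

/-- `[[1, 0], [a, 1]]` -/
def lo (a : F) : SL2 := ⟨!![1, 0; a, 1], by simp [Matrix.det_fin_two]⟩

theorem up_val (a : F) : (up a).1 = !![1, a; 0, 1] := rfl

theorem lo_val (a : F) : (lo a).1 = !![1, 0; a, 1] := rfl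

/-- The upper unitriangular subgroup. -/
def upGroup (F : Type*) [Field F] : Subgroup (Matrix.SpecialLinearGroup (Fin 2) F) where
  carrier := {g | g.1 0 0 = 1 ∧ g.1 1 0 = 0 ∧ g.1 1 1 = 1}
  one_mem' := by simp
  mul_mem' := fun {g h} hg hh => by
    obtain ⟨g1, g2, g3⟩ := hg
    obtain ⟨h1, h2, h3⟩ := hh
    simp [Matrix.mul_apply, Fin.sum_univ_two, g1, g2, g3, h1, h2, h3]
  inv_mem' := fun {g} hg => by
    obtain ⟨g1, g2, g3⟩ := hg
    simp [Matrix.SpecialLinearGroup.coe_inv, Matrix.adjugate_fin_two, g1, g2, g3]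

theorem up_mem (a : F) : up a ∈ upGroup F := by
  refine ⟨?_, ?_, ?_⟩ <;> simp [up_val]

theorem eq_up_of_mem {g : SL2} (h : g ∈ upGroup F) : g = up (g.1 0 1) := by
  obtain ⟨g1, g2, g3⟩ := h
  refine slExt ?_ ?_ ?_ ?_ <;> simp [up_val, g1, g2, g3]

theorem card_upGroup : Nat.card (upGroup F) = Nat.card F := by
  refine Nat.card_congr ⟨fun g => g.1.1 0 1, fun a => ⟨up a, up_mem a⟩, fun g => ?_, fun a => ?_⟩
  · exact Subtype.ext (eq_up_of_mem g.2).symm
  · simp [up_val]

/-- An element conjugating a nontrivial upper unitriangular matrix into `U` is upper triangular,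
and so normalizes `U`. -/
theorem normalizes_of_meet {g u : SL2} (hu : u ∈ upGroup F) (h1 : u ≠ 1)
    (hc : g * u * g⁻¹ ∈ upGroup F) : g ∈ Subgroup.normalizer (upGroup F : Set SL2) := by
  obtain ⟨v, hv⟩ : ∃ v, v = g * u * g⁻¹ := ⟨_, rfl⟩
  have he : g * u = v * g := by rw [hv]; group
  rw [← hv] at hc
  have ha : u.1 0 1 ≠ 0 := fun h0 => h1 (by
    rw [eq_up_of_mem hu, h0]; refine slExt ?_ ?_ ?_ ?_ <;> simp [up_val])
  obtain ⟨u1, u2, u3⟩ := hu
  obtain ⟨v1, v2, v3⟩ := hc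
  have h10 := congrArg (fun x : SL2 => x.1 1 1) he
  simp [Matrix.mul_apply, Fin.sum_univ_two, u3, v2, v3] at h10
  have hr : g.1 1 0 = 0 := by simpa [ha] using h10
  have hd := slDet g
  rw [hr, mul_zero, sub_zero] at hd
  rw [Subgroup.mem_normalizer_iff]
  have key : ∀ k : SL2, k.1 1 0 = 0 → ∀ x ∈ upGroup F, k * x * k⁻¹ ∈ upGroup F := by
    intro k hk x hx
    obtain ⟨x1, x2, x3⟩ := hx
    have hd := slDet k
    rw [hk, mul_zero, sub_zero] at hd
    refine ⟨?_, ?_, ?_⟩ <;>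
      simp [Matrix.SpecialLinearGroup.coe_inv, Matrix.adjugate_fin_two, Matrix.mul_apply,
        Fin.sum_univ_two, hk, x1, x2, x3] <;> linear_combination hd
  intro x
  refine ⟨key g hr x, fun hx => ?_⟩
  have hgi : g⁻¹.1 1 0 = 0 := by
    simp [Matrix.SpecialLinearGroup.coe_inv, Matrix.adjugate_fin_two, hr]
  have := key g⁻¹ hgi _ hx
  simpa [mul_assoc] using this

theorem lo_not_normalizes : lo (1 : F) ∉ Subgroup.normalizer (upGroup F : Set SL2) := by
  intro h
  have h2 := ((Subgroup.mem_normalizer_iff.1 h) (up 1)).1 (up_mem 1)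
  have h3 := h2.2.1
  simp [lo_val, up_val, Matrix.SpecialLinearGroup.coe_mul, Matrix.SpecialLinearGroup.coe_inv, Matrix.adjugate_fin_two, Matrix.mul_apply,
    Fin.sum_univ_two] at h3

/-- `U` and an element outside its normalizer generate. -/
theorem eq_top_of_upGroup_le {H : Subgroup SL2} (hU : upGroup F ≤ H) {x : SL2} (hx : x ∈ H)
    (hxN : x ∉ Subgroup.normalizer (upGroup F : Set SL2)) : H = ⊤ := by
  have hr : x.1 1 0 ≠ 0 := by
    intro hr
    refine hxN ?_
    have hd := slDet x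
    rw [hr, mul_zero, sub_zero] at hd
    refine normalizes_of_meet (u := up 1) (up_mem 1) (fun h => ?_) ?_
    · have := congrArg (fun y : SL2 => y.1 0 1) h
      simp [up_val] at this
    · refine ⟨?_, ?_, ?_⟩ <;>
        simp [up_val, Matrix.SpecialLinearGroup.coe_mul, Matrix.SpecialLinearGroup.coe_inv, Matrix.adjugate_fin_two, Matrix.mul_apply,
          Fin.sum_univ_two, hr] <;> linear_combination hd
  have hup : ∀ a, up a ∈ H := fun a => hU (up_mem a)
  obtain ⟨w, hwH, hw0, hw3, hw2⟩ : ∃ w ∈ H, w.1 0 0 = 0 ∧ w.1 1 1 = 0 ∧ w.1 1 0 = x.1 1 0 := by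
    refine ⟨up (-(x.1 0 0 / x.1 1 0)) * x * up (-(x.1 1 1 / x.1 1 0)),
      H.mul_mem (H.mul_mem (hup _) hx) (hup _), ?_, ?_, ?_⟩ <;>
      simp [up_val, Matrix.SpecialLinearGroup.coe_mul, Matrix.mul_apply, Fin.sum_univ_two, Matrix.vecMul, dotProduct] <;> (try field_simp) <;> (try ring)
  have hdw := slDet w
  rw [hw0, zero_mul, zero_sub] at hdw
  have hlo : ∀ c, lo c ∈ H := by
    intro c
    have hr' : w.1 1 0 ≠ 0 := hw2 ▸ hr
    have e : lo c = w * up (-(c / (w.1 1 0 * w.1 1 0))) * w⁻¹ := by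
      refine slExt ?_ ?_ ?_ ?_ <;>
        simp [lo_val, up_val, Matrix.SpecialLinearGroup.coe_mul, Matrix.SpecialLinearGroup.coe_inv, Matrix.adjugate_fin_two, Matrix.mul_apply,
          Fin.sum_univ_two, hw0, hw3]
      · linear_combination -hdw
      · field_simp
      · linear_combination -hdw
    rw [e]
    exact H.mul_mem (H.mul_mem hwH (hup _)) (H.inv_mem hwH)
  have hmain : ∀ g : SL2, g.1 1 0 ≠ 0 → g ∈ H := by
    intro g hg
    have hd := slDet g
    have e : g = up ((g.1 0 0 - 1) / g.1 1 0) * lo (g.1 1 0) * up ((g.1 1 1 - 1) / g.1 1 0) := by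
      refine slExt ?_ ?_ ?_ ?_ <;>
        simp [lo_val, up_val, Matrix.SpecialLinearGroup.coe_mul, Matrix.mul_apply, Fin.sum_univ_two] <;> field_simp
      · ring
      · linear_combination -hd
      · ring
    rw [e]
    exact H.mul_mem (H.mul_mem (hup _) (hlo _)) (hup _)
  refine (Subgroup.eq_top_iff' H).2 fun g => ?_
  by_cases hg : g.1 1 0 = 0
  · have h1 : lo 1 * g ∈ H := hmain _ (by
      have hd := slDet g
      simp [lo_val, Matrix.SpecialLinearGroup.coe_mul, Matrix.mul_apply, Fin.sum_univ_two, hg]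
      intro h0
      rw [h0, hg] at hd
      simp at hd)
    have := H.mul_mem (H.inv_mem (hlo 1)) h1
    rwa [inv_mul_cancel_left] at this
  · exact hmain g hg

/-- The quotient map `SL₂ → PSL₂`. -/
def toPSL : SL2 →* Matrix.ProjectiveSpecialLinearGroup (Fin 2) F := QuotientGroup.mk' _

theorem toPSL_bijective [CharP F 2] : Function.Bijective (toPSL (F := F)) := by
  refine ⟨(injective_iff_map_eq_one _).2 fun g hg => ?_, QuotientGroup.mk'_surjective _⟩
  rcases (CfsgLib.PSL2Two.π_eq_one_iff (A := g)).1 hg with h | h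
  · exact Subtype.ext h
  · refine Subtype.ext (h.trans ?_)
    ext i j
    fin_cases i <;> fin_cases j <;> simp [CharTwo.neg_eq]

variable [Fintype F] {n : ℕ}

/-- The facts on a Sylow `2`-subgroup of `PSL₂(2ⁿ)`. -/
theorem psl_sylow_facts (hF : Fintype.card F = 2 ^ n)
    (P : Sylow 2 (Matrix.ProjectiveSpecialLinearGroup (Fin 2) F)) :
    Nat.card (P : Subgroup (Matrix.ProjectiveSpecialLinearGroup (Fin 2) F)) = 2 ^ n ∧
    (∀ g u : Matrix.ProjectiveSpecialLinearGroup (Fin 2) F, u ∈ (P : Subgroup _) → u ≠ 1 → g * u * g⁻¹ ∈ (P : Subgroup _) →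
      g ∈ Subgroup.normalizer ((P : Subgroup (Matrix.ProjectiveSpecialLinearGroup (Fin 2) F)) : Set (Matrix.ProjectiveSpecialLinearGroup (Fin 2) F))) ∧
    (∀ x : Matrix.ProjectiveSpecialLinearGroup (Fin 2) F, x ∉ Subgroup.normalizer ((P : Subgroup (Matrix.ProjectiveSpecialLinearGroup (Fin 2) F)) : Set (Matrix.ProjectiveSpecialLinearGroup (Fin 2) F)) →
      ∀ H : Subgroup (Matrix.ProjectiveSpecialLinearGroup (Fin 2) F), (P : Subgroup _) ≤ H → x ∈ H → H = ⊤) ∧
    Subgroup.normalizer ((P : Subgroup (Matrix.ProjectiveSpecialLinearGroup (Fin 2) F)) : Set (Matrix.ProjectiveSpecialLinearGroup (Fin 2) F)) ≠ ⊤ := by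
  haveI := (CfsgLib.PushUp.charP_of_card (p := 2) hF).1
  obtain ⟨e, he⟩ : ∃ e : SL2 ≃* Matrix.ProjectiveSpecialLinearGroup (Fin 2) F,
      ∀ g, e g = toPSL g := ⟨MulEquiv.ofBijective _ toPSL_bijective, fun _ => rfl⟩
  have hc : Nat.card ((upGroup F).map e.toMonoidHom) = 2 ^ n := by
    rw [Subgroup.card_map_of_injective e.injective, card_upGroup, Nat.card_eq_fintype_card, hF]
  have hc' : Nat.card ((upGroup F).map e.toMonoidHom) =
      2 ^ (Nat.card (Matrix.ProjectiveSpecialLinearGroup (Fin 2) F)).factorization 2 := by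
    rw [hc, CfsgLib.PushUp.psl_factorization hF]
  obtain ⟨h, hh⟩ := MulAction.exists_smul_eq (Matrix.ProjectiveSpecialLinearGroup (Fin 2) F)
    (Sylow.ofCard _ hc') P
  -- an isomorphism from `SL₂` carrying `U` onto `P`
  obtain ⟨f, hf⟩ : ∃ f : SL2 ≃* Matrix.ProjectiveSpecialLinearGroup (Fin 2) F,
      (upGroup F).map f.toMonoidHom = (P : Subgroup _) := by
    refine ⟨e.trans (MulAut.conj h), ?_⟩
    rw [← hh, Sylow.coe_subgroup_smul, Sylow.coe_ofCard]
    rw [show (e.trans (MulAut.conj h)).toMonoidHom =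
      (MulAut.conj h).toMonoidHom.comp e.toMonoidHom from rfl, ← Subgroup.map_map]
    rfl
  have hm : ∀ g, f g ∈ (P : Subgroup _) ↔ g ∈ upGroup F := fun g => by
    rw [← hf]
    exact ⟨fun ⟨y, hy, hye⟩ => f.injective hye ▸ hy, fun hg => ⟨g, hg, rfl⟩⟩
  have hN : ∀ g, f g ∈ Subgroup.normalizer ((P : Subgroup (Matrix.ProjectiveSpecialLinearGroup (Fin 2) F)) : Set (Matrix.ProjectiveSpecialLinearGroup (Fin 2) F)) ↔
      g ∈ Subgroup.normalizer (upGroup F : Set SL2) := by
    intro g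
    rw [Subgroup.mem_normalizer_iff, Subgroup.mem_normalizer_iff]
    constructor
    · intro hg y
      rw [← hm, ← hm, map_mul, map_mul, map_inv]
      exact hg (f y)
    · intro hg y
      obtain ⟨z, rfl⟩ := f.surjective y
      rw [← map_inv, ← map_mul, ← map_mul, hm, hm]
      exact hg z
  refine ⟨?_, ?_, ?_, ?_⟩
  · rw [← hf, Subgroup.card_map_of_injective f.injective, card_upGroup, Nat.card_eq_fintype_card, hF]
  · intro g u hu h1 hgu
    obtain ⟨g, rfl⟩ := f.surjective g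
    obtain ⟨u, rfl⟩ := f.surjective u
    rw [← map_inv, ← map_mul, ← map_mul, hm] at hgu
    exact (hN g).2 (normalizes_of_meet ((hm u).1 hu) (fun h0 => h1 (by rw [h0, map_one])) hgu)
  · intro x hx H hPH hxH
    obtain ⟨x, rfl⟩ := f.surjective x
    have := eq_top_of_upGroup_le (H := H.comap f.toMonoidHom)
      (fun y hy => hPH ((hm y).2 hy)) (x := x) hxH (fun h0 => hx ((hN x).2 h0))
    refine (Subgroup.eq_top_iff' H).2 fun y => ?_
    obtain ⟨z, rfl⟩ := f.surjective y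
    exact (this ▸ Subgroup.mem_top z : z ∈ H.comap f.toMonoidHom)
  · intro h0
    exact lo_not_normalizes ((hN _).1 (h0 ▸ Subgroup.mem_top _))

end CfsgLib.PushUpTwo
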